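import Mathlib
import Cfsg.Agent.H829.FieldTypes
import Cfsg.Agent.CpAut.RgdTwD4
import Cfsg.Agent.H829.SzTwF
import Cfsg.Agent.EvenType.ChevTwo
import Cfsg.Agent.EvenType.CharTwoCent
import Cfsg.Agent.S1057
import Cfsg.Agent.S0283
import Cfsg.Agent.S1070
import Cfsg.Agent.S1071
import Cfsg.Agent.Prune
set_option linter.all false
prune_inst 0x7f00000000000000000000000000000000000000000000000000000000000000000000000000000000000000000000000000000000000000000000000000000000000000000000000000000000000000003fffffffffffffffffffffffffffbeffbdffffffff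
open scoped Cfsg.Agent.FastGrp

-- part: H829/D4Two
section
/-!
# Automorphisms of order two of `³D₄(q)`, `q` even

* `field_D4` : an automorphism `x` of `³D₄(q)`, `q` even, with `x ^ 2 = 1` is inner, or `q = q₀²` and the fixed subgroup has
  a normal subgroup of odd index isomorphic to `³D₄(q₀)`.
-/

set_option autoImplicit false
set_option linter.unusedSectionVars false
set_option maxHeartbeats 400000

namespace Cfsg.Agent.H829.D4Two

open CoxeterSystem Cfsg.Agent.ChevalleyStructure.CoxeterGeom Cfsg.Agent.Tits.Roots Cfsg.Agent.Tits.Core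
  Cfsg.Agent.Tits.Exchange Cfsg.Agent.Nodes.Reps Cfsg.Agent.Nodes.BNOf Cfsg.Agent.Nodes.StabComb
  Cfsg.Agent.Nodes.Bruhat Cfsg.Agent.Nodes.OppDec Cfsg.Agent.Nodes.RGDTwGen Cfsg.Agent.Nodes.RGDChev
  Cfsg.Agent.Nodes.RGDFold Cfsg.Agent.Nodes.RGDFoldSL
open Cfsg.Agent.KFacts.RgdOpp Cfsg.Agent.KFacts.RgdAut Cfsg.Agent.KFacts.RgdDiag Cfsg.Agent.KFacts.RgdRigid
  Cfsg.Agent.KFacts.RgdField Cfsg.Agent.KFacts.RgdTau Cfsg.Agent.KFacts.RgdNodes
open Cfsg.Lie Cfsg.Agent.ChevalleyStructure Cfsg.Agent.ChevalleyStructure.Elts Cfsg.Agent.ChevStructure.FieldMap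
open Cfsg.Agent.KFacts.TwDFour.Out
open Cfsg.Agent.Nodes.RGDTwD4 Cfsg.Agent.Nodes.RGDTwNode.D4
open Cfsg.Agent.ParSys.Fam.D4 (hf)
open Cfsg.Agent.CpAut.RgdFix Cfsg.Agent.CpAut.RgdCoh Cfsg.Agent.CpAut.RgdConj Cfsg.Agent.CpAut.RgdSub
  Cfsg.Agent.CpAut.RgdTwStd Cfsg.Agent.CpAut.RgdTwD4 Cfsg.Agent.CpAut

universe u

theorem sub_equiv {K : Type} [Field K] [Fintype K] [CharP K 2] {q : ℕ} (hq : IsPrimePow q)
    (hK : Fintype.card K = q ^ 3) {τ : K ≃+* K} (hτ : τ ^ 2 = 1) (hτ1 : τ ≠ 1) :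
    ∃ q' : ℕ, IsPrimePow q' ∧ q = q' ^ 2 ∧ Nat.card ↥(fixF τ) = q' ^ 3 ∧
      Nonempty (↥(twistedD4 ↥(fixF τ) q) ≃* ↥(twistedD4 ↥(fixF τ) q')) := by
  have hk := card_fixF Nat.prime_two hτ hτ1
  have := Fintype.ofFinite ↥(fixF τ)
  obtain ⟨q', hq', h1, h2⟩ := exists_root (n := 3) Nat.prime_two Nat.prime_three (by norm_num) hq
    (k := Nat.card ↥(fixF τ))
    Finite.one_lt_card (by rw [← hk, Nat.card_eq_fintype_card, hK])
  refine ⟨q', hq', h2, h1, ?_⟩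
  have h4 : ∀ t : ↥(fixF τ), t ^ (q' ^ 3) = t := by
    intro t
    rw [← h1, Nat.card_eq_fintype_card]
    exact FiniteField.pow_card t
  have h3 : ∀ t : ↥(fixF τ), t ^ q = t ^ (q' ^ 2) := by
    intro t
    rw [h2]
  have h5 : ∀ t : ↥(fixF τ), (t ^ q) ^ q = t ^ q' := by
    intro t
    rw [h3, h3, ← pow_mul]
    have e : q' ^ 2 * q' ^ 2 = q' ^ 3 * q' := by ring
    rw [e, pow_mul, h4]
  have h6 : ∀ t : ↥(fixF τ), (t ^ q') ^ q' = t ^ q := by
    intro t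
    rw [h3, ← pow_mul, ← pow_two]
  exact swap_equiv h5 h6

theorem tor_comm {K : Type u} [Field K] {q : ℕ} {s t : ↥(twistedD4 K q)} (hs : s ∈ T K q) (ht : t ∈ T K q) :
    s * t = t * s :=
  Subtype.ext (HDiag.mul_comm_of_mem chevD4 hD4 (Subgroup.mem_subgroupOf.1 hs).1 (Subgroup.mem_subgroupOf.1 ht).1)

/-- **`³D₄(q)`**, `q` even. -/
theorem field_D4 {K : Type} [Field K] [Fintype K] [CharP K 2] {q : ℕ} (hq : IsPrimePow q)
    (hK : Fintype.card K = q ^ 3) {x : MulAut ↥(twistedD4 K q)} (hx : x ^ 2 = 1) :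
    (∃ g, x = MulAut.conj g) ∨
      ∃ (K₀ : Type) (_ : Field K₀) (_ : Fintype K₀) (q₀ : ℕ), CharP K₀ 2 ∧ IsPrimePow q₀ ∧ q = q₀ ^ 2 ∧
        Fintype.card K₀ = q₀ ^ 3 ∧ OddOver ↥(fixedSubgroup x) ↥(twistedD4 K₀ q₀) := by
  have : Fact (Nat.Prime 2) := ⟨Nat.prime_two⟩
  obtain ⟨φ, hφ⟩ := D4Fixed.exists_frob hq hK
  obtain ⟨cs, hcs⟩ : ∃ cs : CoxeterSystem CoxeterMatrix.G₂ CoxeterMatrix.G₂.Group, cs = cs :=
    ⟨CoxeterMatrix.G₂.toCoxeterSystem, rfl⟩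
  have hW : Finite CoxeterMatrix.G₂.Group := finiteW cs
  have R := Cfsg.Agent.Nodes.RGDTwD4.rgd cs hK hφ 2
  have hG1 : RGD.Sup (X φ q) {x | IsRoot cs isCartan x} = ⊤ := _root_.Cfsg.Agent.Nodes.RGDTwD4.G1_eq_top cs hK hφ
  obtain ⟨hs, hna⟩ := Cfsg.Agent.S1071.result hq hK
  have hτ : ∀ (β : MulAut ↥(twistedD4 K q)) (τ' : ∀ i, KD φ i ≃+* KD φ i),
      NTau (T K q) (X φ q) (chD hφ hK) β τ' → β ^ 2 = 1 →
      ∃ τ : K ≃+* K, τ' = rs hφ τ ∧ τ ^ 2 = 1 := by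
    intro β τ' S hβ
    obtain ⟨τ, S'⟩ := exists_dtau hφ hK cs 2 S.diag
    refine ⟨τ, NTau.unique (coordD hφ hK) S (ntau_of_dtau hφ hK S'), ?_⟩
    have h2 := dtau_pow hφ hK S' 2
    rw [hβ] at h2
    exact DTau.unique hφ hK h2 (DTau.one hφ hK)
  have hrs1 : rs hφ (1 : K ≃+* K) = 1 := by
    funext i
    ext a
    rfl
  rcases RgdNConj.inner_or_conj R hG1 (coordD hφ hK) (fun σ hσ hσ' _ => by
      apply perm_G2 σ
      intro h3
      have h4 := hσ' 0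
      rw [h3] at h4
      exact card_ne hφ hK hq.one_lt h4) (fun β τ' S hβ => by
      obtain ⟨τ, rfl, hτp⟩ := hτ β τ' S hβ
      by_cases h1 : τ = 1
      · left
        rw [h1, hrs1]
      · right
        exact fun i hi => h1 (eq_one_of_rs hφ hK Nat.prime_two (by norm_num) hτp i hi)) hx with
    ⟨g, rfl⟩ | ⟨β, τ', S, hβ, hτ1, h1⟩
  · exact Or.inl ⟨g, rfl⟩
  · right
    obtain ⟨τ, rfl, hτp⟩ := hτ β τ' S hβ
    have hτ1' : τ ≠ 1 := by
      rintro rfl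
      exact hτ1 hrs1
    obtain ⟨e, he⟩ := h1 (st q τ) (st_pow τ hτp) (ntau_st hφ hK τ cs 2)
    obtain ⟨f⟩ := DD_equiv hφ hK τ cs 2 (m := 1) (by rw [pow_one]; exact hτp)
    obtain ⟨q', hq', h2, h3, ⟨f'⟩⟩ := sub_equiv hq hK hτp hτ1'
    have := Fintype.ofFinite ↥(fixF τ)
    refine ⟨↥(fixF τ), inferInstance, inferInstance, q', charP_fixF 2 τ, hq', h2, ?_, OddOver.conj he ?_⟩
    · rw [← Nat.card_eq_fintype_card, h3]
    · have h5 : st q τ ^ 2 ^ 1 = 1 := by rw [pow_one]; exact st_pow τ hτp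
      exact (FieldTwo.oddOver_fix R (fun s hs t ht => tor_comm hs ht) (GG_eq_top (T := T K q) hG1)
        (ntau_st hφ hK τ cs 2).diag h5).trans_equiv (f.trans f')

end Cfsg.Agent.H829.D4Two
end

-- part: H829/ExcComp
section
/-!
# Components of the fixed subgroups of involutory automorphisms: exceptional groups in characteristic two

* `Pair K A` : the list of the pairs `(K, A)`;
* `GraphIn` : the graph types of `F₄(q)`, `E₆(q)` and the outer involutions of `²E₆(q)` (hypothesis);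
* `exc_comp` : `K` exceptional of characteristic `2`, `x ∈ Aut(K)`, `x ≠ 1 = x ^ 2`, `A` a component of `C_K(x)`:
  `Pair K A`.
-/

set_option autoImplicit false

namespace Cfsg.Agent.H829.ExcComp

open Cfsg Cfsg.Lie Subgroup
open Cfsg.Agent.H829.FieldTwo Cfsg.Agent.CpAut.RgdSub Cfsg.Agent.CpAut

universe u v

/-- The pairs `(K, A)`, field types: `|F| = |F₀|²`. -/
def FieldPair (K : Type u) (A : Type v) [Group K] [Group A] : Prop :=
  ∃ (F F₀ : Type) (_ : Field F) (_ : Fintype F) (_ : CharP F 2) (_ : Field F₀) (_ : Fintype F₀) (_ : CharP F₀ 2),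
    Fintype.card F = Fintype.card F₀ ^ 2 ∧
    ((3 ≤ Fintype.card F₀ ∧ Nonempty (K ≃* chevG2.group F) ∧ Nonempty (A ≃* chevG2.group F₀)) ∨
      (Fintype.card F₀ = 2 ∧ Nonempty (K ≃* chevG2.group F) ∧
        ∃ (L : Type) (_ : Field L) (_ : Fintype L), Fintype.card L = 9 ∧ Nonempty (A ≃* PSU 3 L 3)) ∨
      (Nonempty (K ≃* chevF4.group F) ∧ Nonempty (A ≃* chevF4.group F₀)) ∨
      (Nonempty (K ≃* chevE6.group F) ∧ Nonempty (A ≃* chevE6.group F₀)) ∨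
      (Nonempty (K ≃* chevE7.group F) ∧ Nonempty (A ≃* chevE7.group F₀)) ∨
      (Nonempty (K ≃* chevE8.group F) ∧ Nonempty (A ≃* chevE8.group F₀)))

/-- The pair `(³D₄(q₀²), ³D₄(q₀))`. -/
def TriPair (K : Type u) (A : Type v) [Group K] [Group A] : Prop :=
  ∃ (F F₀ : Type) (_ : Field F) (_ : Fintype F) (_ : CharP F 2) (_ : Field F₀) (_ : Fintype F₀) (_ : CharP F₀ 2)
    (q q₀ : ℕ), IsPrimePow q₀ ∧ q = q₀ ^ 2 ∧ Fintype.card F = q ^ 3 ∧ Fintype.card F₀ = q₀ ^ 3 ∧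
    Nonempty (K ≃* twistedD4 F q) ∧ Nonempty (A ≃* twistedD4 F₀ q₀)

/-- The pairs `(F₄(2^(2m+1)), ²F₄(2^(2m+1)))`, the Tits group for `m = 0`. -/
def FFourPair (K : Type u) (A : Type v) [Group K] [Group A] : Prop :=
  ∃ (F : Type) (_ : Field F) (_ : Fintype F) (_ : CharP F 2) (m : ℕ), Fintype.card F = 2 ^ (2 * m + 1) ∧
    Nonempty (K ≃* chevF4.group F) ∧ ((1 ≤ m ∧ Nonempty (A ≃* twistedF4 F (2 ^ m))) ∨ (m = 0 ∧ IsoTits A))

/-- The pairs `(E₆(q₀²), ²E₆(q₀))`, `(E₆(q), F₄(q))`. -/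
def ESixPair (K : Type u) (A : Type v) [Group K] [Group A] : Prop :=
  ∃ (F : Type) (_ : Field F) (_ : Fintype F) (_ : CharP F 2), Nonempty (K ≃* chevE6.group F) ∧
    ((∃ q₀ : ℕ, Fintype.card F = q₀ ^ 2 ∧ Nonempty (A ≃* twistedE6 F q₀)) ∨ Nonempty (A ≃* chevF4.group F))

/-- The pairs `(²E₆(q), F₄(q))`. -/
def TwESixPair (K : Type u) (A : Type v) [Group K] [Group A] : Prop :=
  ∃ (F F₀ : Type) (_ : Field F) (_ : Fintype F) (_ : CharP F 2) (_ : Field F₀) (_ : Fintype F₀) (_ : CharP F₀ 2)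
    (q : ℕ), Fintype.card F = q ^ 2 ∧ Fintype.card F₀ = q ∧ Nonempty (K ≃* twistedE6 F q) ∧
    Nonempty (A ≃* chevF4.group F₀)

/-- **The pairs `(K, A)`.** -/
def Pair (K : Type u) (A : Type v) [Group K] [Group A] : Prop :=
  FieldPair K A ∨ TriPair K A ∨ FFourPair K A ∨ ESixPair K A ∨ TwESixPair K A

/-- the graph types -/
structure GraphIn : Prop where
  f4 : ∀ (F : Type) [Field F] [Fintype F] [CharP F 2] (x : MulAut ↥(chevF4.group F)), x ^ 2 = 1 →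
    GraphType isType_F4 F x → ∀ A : Subgroup ↥(fixedSubgroup x), IsComponent A → FFourPair ↥(chevF4.group F) ↥A
  e6 : ∀ (F : Type) [Field F] [Fintype F] [CharP F 2] (x : MulAut ↥(chevE6.group F)), x ^ 2 = 1 →
    GraphType isType_E6 F x → ∀ A : Subgroup ↥(fixedSubgroup x), IsComponent A → ESixPair ↥(chevE6.group F) ↥A
  te6 : ∀ (F : Type) [Field F] [Fintype F] [CharP F 2] (q : ℕ) (_ : IsPrimePow q) (_ : Fintype.card F = q ^ 2)
    (x : MulAut ↥(twistedE6 F q)), x ^ 2 = 1 → (¬ ∃ g, x = MulAut.conj g) →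
    ∀ A : Subgroup ↥(fixedSubgroup x), IsComponent A → TwESixPair ↥(twistedE6 F q) ↥A

/-! ### inner automorphisms -/

/-- **no components in the centralizer of an involution** of a simple group in `Chev(2)` -/
theorem no_comp_inner {K : Type u} [Group K] [Finite K] [IsSimpleGroup K] (hna : ¬ IsMulCommutative K)
    (hK : IsChevSimple 2 K) {g : K} (hx : (MulAut.conj g : MulAut K) ^ 2 = 1) (hx1 : (MulAut.conj g : MulAut K) ≠ 1)
    {A : Subgroup ↥(fixedSubgroup (MulAut.conj g : MulAut K))} (hA : IsComponent A) : False := by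
  have h2 := Cfsg.Agent.EvenType.ChevTwo.charTwo hna hK
  have hc := CpAut.center_eq_bot_of_simple hna
  have hg : orderOf g = 2 := by
    rw [← CpAut.orderOf_conj hc g]
    exact orderOf_eq_prime hx hx1
  have h3 := Cfsg.Agent.EvenType.CharTwoCent.char2_centralizer h2 hg
  have : Fact (Nat.Prime 2) := ⟨Nat.prime_two⟩
  have e : ↥(fixedSubgroup (MulAut.conj g : MulAut K)) ≃* ↥(centralizer ({g} : Set K)) :=
    MulEquiv.subgroupCongr (CpAut.fixedSubgroup_conj g)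
  exact CpAut.RgdNoComp.no_comp_of_charP (p := 2) h3
    (Cfsg.Agent.SignalizersComponents.Components.isComponent_map_equiv e hA)

/-! ### transport -/

theorem FieldPair.congr {K K' : Type*} {A A' : Type*} [Group K] [Group K'] [Group A] [Group A'] (e : K ≃* K')
    (f : A ≃* A') (h : FieldPair K A) : FieldPair K' A' := by
  obtain ⟨F, F₀, i1, i2, i3, i4, i5, i6, hc, h⟩ := h
  refine ⟨F, F₀, i1, i2, i3, i4, i5, i6, hc, ?_⟩
  rcases h with ⟨h, ⟨a⟩, ⟨b⟩⟩ | ⟨h, ⟨a⟩, L, j1, j2, hL, ⟨b⟩⟩ | ⟨⟨a⟩, ⟨b⟩⟩ | ⟨⟨a⟩, ⟨b⟩⟩ | ⟨⟨a⟩, ⟨b⟩⟩ | ⟨⟨a⟩, ⟨b⟩⟩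
  · exact Or.inl ⟨h, ⟨e.symm.trans a⟩, ⟨f.symm.trans b⟩⟩
  · exact Or.inr (Or.inl ⟨h, ⟨e.symm.trans a⟩, L, j1, j2, hL, ⟨f.symm.trans b⟩⟩)
  · exact Or.inr (Or.inr (Or.inl ⟨⟨e.symm.trans a⟩, ⟨f.symm.trans b⟩⟩))
  · exact Or.inr (Or.inr (Or.inr (Or.inl ⟨⟨e.symm.trans a⟩, ⟨f.symm.trans b⟩⟩)))
  · exact Or.inr (Or.inr (Or.inr (Or.inr (Or.inl ⟨⟨e.symm.trans a⟩, ⟨f.symm.trans b⟩⟩))))
  · exact Or.inr (Or.inr (Or.inr (Or.inr (Or.inr ⟨⟨e.symm.trans a⟩, ⟨f.symm.trans b⟩⟩))))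

theorem Pair.congr {K K' : Type*} {A A' : Type*} [Group K] [Group K'] [Group A] [Group A'] (e : K ≃* K')
    (f : A ≃* A') (h : Pair K A) : Pair K' A' := by
  rcases h with h | h | h | h | h
  · exact Or.inl (h.congr e f)
  · obtain ⟨F, F₀, i1, i2, i3, i4, i5, i6, q, q₀, h1, h2, h3, h4, ⟨a⟩, ⟨b⟩⟩ := h
    exact Or.inr (Or.inl ⟨F, F₀, i1, i2, i3, i4, i5, i6, q, q₀, h1, h2, h3, h4, ⟨e.symm.trans a⟩, ⟨f.symm.trans b⟩⟩)
  · obtain ⟨F, i1, i2, i3, m, h1, ⟨a⟩, h2⟩ := h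
    refine Or.inr (Or.inr (Or.inl ⟨F, i1, i2, i3, m, h1, ⟨e.symm.trans a⟩, ?_⟩))
    rcases h2 with ⟨h2, ⟨b⟩⟩ | ⟨h2, ⟨b⟩⟩
    · exact Or.inl ⟨h2, ⟨f.symm.trans b⟩⟩
    · exact Or.inr ⟨h2, ⟨f.symm.trans b⟩⟩
  · obtain ⟨F, i1, i2, i3, ⟨a⟩, h2⟩ := h
    refine Or.inr (Or.inr (Or.inr (Or.inl ⟨F, i1, i2, i3, ⟨e.symm.trans a⟩, ?_⟩)))
    rcases h2 with ⟨q₀, h2, ⟨b⟩⟩ | ⟨⟨b⟩⟩
    · exact Or.inl ⟨q₀, h2, ⟨f.symm.trans b⟩⟩
    · exact Or.inr ⟨f.symm.trans b⟩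
  · obtain ⟨F, F₀, i1, i2, i3, i4, i5, i6, q, h1, h2, ⟨a⟩, ⟨b⟩⟩ := h
    exact Or.inr (Or.inr (Or.inr (Or.inr ⟨F, F₀, i1, i2, i3, i4, i5, i6, q, h1, h2, ⟨e.symm.trans a⟩,
      ⟨f.symm.trans b⟩⟩)))

/-- the statement for all involutory automorphisms of `K` -/
def Row (K : Type u) [Group K] : Prop :=
  ∀ x : MulAut K, x ^ 2 = 1 → x ≠ 1 → ∀ A : Subgroup ↥(fixedSubgroup x), IsComponent A → Pair K ↥A

theorem Row.congr {K K' : Type*} [Group K] [Group K'] (e : K ≃* K') (h : Row K) : Row K' := by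
  intro x hx hx1 A hA
  obtain ⟨y, hy⟩ : ∃ y : MulAut K, y = (MulAut.congr e).symm x := ⟨_, rfl⟩
  have hxy : MulAut.congr e y = x := by rw [hy, MulEquiv.apply_symm_apply]
  subst hxy
  have h2 : y ^ 2 = 1 := by
    rw [← map_pow] at hx
    exact (MulAut.congr e).injective (by rw [hx, map_one])
  have h3 : y ≠ 1 := by
    rintro rfl
    exact hx1 (map_one _)
  have f := CpAut.fixEquiv e y
  have h4 := h y h2 h3 (A.map f.symm.toMonoidHom)
    (Cfsg.Agent.SignalizersComponents.Components.isComponent_map_equiv f.symm hA)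
  exact h4.congr e (A.equivMapOfInjective f.symm.toMonoidHom f.symm.injective).symm

/-! ### the rows -/

section rows

variable {F : Type} [Field F] [Fintype F] [CharP F 2]

/-- the field type -/
theorem field_pair {D : ChevalleyDatum} {x : MulAut ↥(D.group F)} (h : FieldType D F x) :
    ∃ (F₀ : Type) (_ : Field F₀) (_ : Fintype F₀) (_ : CharP F₀ 2), Fintype.card F = Fintype.card F₀ ^ 2 ∧
      OddOver ↥(fixedSubgroup x) ↥(D.group F₀) := by
  obtain ⟨τ, h1, h2, -, h3⟩ := h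
  have := Fintype.ofFinite ↥(fixF τ)
  refine ⟨↥(fixF τ), inferInstance, inferInstance, charP_fixF 2 τ, ?_, h3⟩
  have h4 := card_fixF Nat.prime_two h1 h2
  rwa [Nat.card_eq_fintype_card, Nat.card_eq_fintype_card] at h4

theorem chev_two {X : Type*} [Group X] (h : IsExceptionalChevChar 2 X) : IsChevSimple 2 X := by
  unfold IsChevSimple IsLieTypeChar
  simp only [h, true_or, or_true]

theorem tw_two {X : Type*} [Group X] (h : IsTwistedE6D4Char 2 X) : IsChevSimple 2 X := by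
  unfold IsChevSimple IsLieTypeChar
  simp only [h, true_or, or_true]

omit [CharP F 2] in
theorem exists_ne_of_card (h : 3 ≤ Fintype.card F) : ∃ a : F, a ≠ 0 ∧ a ≠ 1 := by
  classical
  by_contra hcon
  push Not at hcon
  have h1 : (Finset.univ : Finset F) ⊆ {0, 1} := by
    intro a _
    by_cases ha : a = 0
    · simp only [ha, _root_.Finset.mem_insert, _root_.Finset.mem_singleton, _root_.zero_ne_one, _root_.or_false]
    · simp only [hcon a ha, _root_.Finset.mem_insert, _root_.one_ne_zero, _root_.Finset.mem_singleton, _root_.or_true]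
  have h2 := Finset.card_le_card h1
  rw [Finset.card_univ] at h2
  have h3 := Finset.card_le_two (a := (0 : F)) (b := 1)
  omega

theorem row_G2 (hF : 3 ≤ Fintype.card F) : Row ↥(chevG2.group F) := by
  intro x hx hx1 A hA
  obtain ⟨hs, hna⟩ := Cfsg.Agent.S1055.result (F := F) (exists_ne_of_card hF)
  rcases field_G2 (exists_ne_of_card hF) hx with ⟨g, rfl⟩ | h
  · exact (no_comp_inner hna (chev_two ⟨F, inferInstance, inferInstance, inferInstance,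
      Or.inl ⟨hF, ⟨MulEquiv.refl _⟩⟩⟩) hx hx1 hA).elim
  · obtain ⟨F₀, i1, i2, i3, hc, ho⟩ := field_pair h
    left
    refine ⟨F, F₀, inferInstance, inferInstance, inferInstance, i1, i2, i3, hc, ?_⟩
    have h2 : 2 ≤ Fintype.card F₀ := Fintype.one_lt_card
    rcases h2.lt_or_eq with h3 | h3
    · left
      have h4 : ∃ a : F₀, a ≠ 0 ∧ a ≠ 1 := exists_ne_of_card (by omega)
      obtain ⟨hs', hna'⟩ := Cfsg.Agent.S1055.result (F := F₀) h4
      exact ⟨by omega, ⟨MulEquiv.refl _⟩, ho.comp hA⟩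
    · right
      left
      let L := GaloisField 3 2
      have hL1 : Nat.card (GaloisField 3 2) = 3 ^ 2 := GaloisField.card 3 2 two_ne_zero
      have iL : Fintype L := Fintype.ofFinite L
      have hL : Fintype.card L = 9 := by
        rw [← Nat.card_eq_fintype_card, hL1]
        norm_num
      obtain ⟨e⟩ := Cfsg.Agent.S1057.result (F := F₀) (K := L) h3.symm hL
      have hsim : IsSimpleGroup (PSU 3 L 3) := Cfsg.Agent.S0283.result (q := 3) (by rw [hL]; norm_num) 3 le_rfl (by norm_num)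
      have hs2 : IsSimpleGroup ↥(_root_.commutator ↥(chevG2.group F₀)) := e.isSimpleGroup
      have hsol : Group.IsSolvable (↥(chevG2.group F₀) ⧸ commutator ↥(chevG2.group F₀)) := by
        refine solvable_of_comm fun a b => ?_
        exact mul_comm (G := Abelianization ↥(chevG2.group F₀)) a b
      obtain ⟨f⟩ := ho.comp_sub hsol hA
      exact ⟨h3.symm, ⟨MulEquiv.refl _⟩, L, inferInstance, inferInstance, hL, ⟨f.trans e⟩⟩

theorem row_E7 : Row ↥(chevE7.group F) := by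
  intro x hx hx1 A hA
  obtain ⟨hs, hna⟩ := Cfsg.Agent.S1054.result (F := F) chevE7 (by simp)
  rcases field_E7 hx with ⟨g, rfl⟩ | h
  · exact (no_comp_inner hna (chev_two ⟨F, inferInstance, inferInstance, inferInstance,
      Or.inr (Or.inr (Or.inr (Or.inl ⟨MulEquiv.refl _⟩)))⟩) hx hx1 hA).elim
  · obtain ⟨F₀, i1, i2, i3, hc, ho⟩ := field_pair h
    obtain ⟨hs', hna'⟩ := Cfsg.Agent.S1054.result (F := F₀) chevE7 (by simp)
    exact Or.inl ⟨F, F₀, inferInstance, inferInstance, inferInstance, i1, i2, i3, hc,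
      Or.inr (Or.inr (Or.inr (Or.inr (Or.inl ⟨⟨MulEquiv.refl _⟩, ho.comp hA⟩))))⟩

theorem row_E8 : Row ↥(chevE8.group F) := by
  intro x hx hx1 A hA
  obtain ⟨hs, hna⟩ := Cfsg.Agent.S1054.result (F := F) chevE8 (by simp)
  rcases field_E8 hx with ⟨g, rfl⟩ | h
  · exact (no_comp_inner hna (chev_two ⟨F, inferInstance, inferInstance, inferInstance,
      Or.inr (Or.inr (Or.inr (Or.inr ⟨MulEquiv.refl _⟩)))⟩) hx hx1 hA).elim
  · obtain ⟨F₀, i1, i2, i3, hc, ho⟩ := field_pair h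
    obtain ⟨hs', hna'⟩ := Cfsg.Agent.S1054.result (F := F₀) chevE8 (by simp)
    exact Or.inl ⟨F, F₀, inferInstance, inferInstance, inferInstance, i1, i2, i3, hc,
      Or.inr (Or.inr (Or.inr (Or.inr (Or.inr ⟨⟨MulEquiv.refl _⟩, ho.comp hA⟩))))⟩

theorem row_F4 (H : GraphIn) : Row ↥(chevF4.group F) := by
  intro x hx hx1 A hA
  obtain ⟨hs, hna⟩ := Cfsg.Agent.S1054.result (F := F) chevF4 (by simp)
  rcases field_F4 hx with ⟨g, rfl⟩ | h | h
  · exact (no_comp_inner hna (chev_two ⟨F, inferInstance, inferInstance, inferInstance,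
      Or.inr (Or.inl ⟨MulEquiv.refl _⟩)⟩) hx hx1 hA).elim
  · obtain ⟨F₀, i1, i2, i3, hc, ho⟩ := field_pair h
    obtain ⟨hs', hna'⟩ := Cfsg.Agent.S1054.result (F := F₀) chevF4 (by simp)
    exact Or.inl ⟨F, F₀, inferInstance, inferInstance, inferInstance, i1, i2, i3, hc,
      Or.inr (Or.inr (Or.inl ⟨⟨MulEquiv.refl _⟩, ho.comp hA⟩))⟩
  · exact Or.inr (Or.inr (Or.inl (H.f4 F x hx h A hA)))

theorem row_E6 (H : GraphIn) : Row ↥(chevE6.group F) := by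
  intro x hx hx1 A hA
  obtain ⟨hs, hna⟩ := Cfsg.Agent.S1054.result (F := F) chevE6 (by simp)
  rcases field_E6 hx with ⟨g, rfl⟩ | h | h
  · exact (no_comp_inner hna (chev_two ⟨F, inferInstance, inferInstance, inferInstance,
      Or.inr (Or.inr (Or.inl ⟨MulEquiv.refl _⟩))⟩) hx hx1 hA).elim
  · obtain ⟨F₀, i1, i2, i3, hc, ho⟩ := field_pair h
    obtain ⟨hs', hna'⟩ := Cfsg.Agent.S1054.result (F := F₀) chevE6 (by simp)
    exact Or.inl ⟨F, F₀, inferInstance, inferInstance, inferInstance, i1, i2, i3, hc,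
      Or.inr (Or.inr (Or.inr (Or.inl ⟨⟨MulEquiv.refl _⟩, ho.comp hA⟩)))⟩
  · exact Or.inr (Or.inr (Or.inr (Or.inl (H.e6 F x hx h A hA))))

theorem row_D4 {q : ℕ} (hq : IsPrimePow q) (hF : Fintype.card F = q ^ 3) : Row ↥(twistedD4 F q) := by
  intro x hx hx1 A hA
  obtain ⟨hs, hna⟩ := Cfsg.Agent.S1071.result hq hF
  rcases D4Two.field_D4 hq hF hx with ⟨g, rfl⟩ | ⟨F₀, i1, i2, q₀, i3, hq₀, h1, h2, ho⟩
  · exact (no_comp_inner hna (tw_two ⟨F, inferInstance, inferInstance, inferInstance, q, hq,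
      Or.inr ⟨hF, ⟨MulEquiv.refl _⟩⟩⟩) hx hx1 hA).elim
  · obtain ⟨hs', hna'⟩ := Cfsg.Agent.S1071.result hq₀ h2
    exact Or.inr (Or.inl ⟨F, F₀, inferInstance, inferInstance, inferInstance, i1, i2, i3, q, q₀, hq₀, h1, hF, h2,
      ⟨MulEquiv.refl _⟩, ho.comp hA⟩)

theorem row_te6 (H : GraphIn) {q : ℕ} (hq : IsPrimePow q) (hF : Fintype.card F = q ^ 2) :
    Row ↥(twistedE6 F q) := by
  intro x hx hx1 A hA
  by_cases h : ∃ g, x = MulAut.conj g
  · obtain ⟨g, rfl⟩ := h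
    obtain ⟨hs, hna⟩ := Cfsg.Agent.S1070.result hq hF
    exact (no_comp_inner hna (tw_two ⟨F, inferInstance, inferInstance, inferInstance, q, hq,
      Or.inl ⟨hF, ⟨MulEquiv.refl _⟩⟩⟩) hx hx1 hA).elim
  · exact Or.inr (Or.inr (Or.inr (Or.inr (H.te6 F q hq hF x hx h A hA))))

end rows

theorem row_inner {K : Type u} [Group K] [Finite K] [IsSimpleGroup K] (hna : ¬ IsMulCommutative K)
    (hK : IsChevSimple 2 K) (h : ∀ x : MulAut K, x ^ 2 = 1 → ∃ g : K, x = MulAut.conj g) : Row K := by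
  intro x hx hx1 A hA
  obtain ⟨g, rfl⟩ := h x hx
  exact (no_comp_inner hna hK hx hx1 hA).elim

/-- **The components of the fixed subgroups of the involutory automorphisms of the exceptional groups in characteristic
two.** -/
theorem exc_comp (H : GraphIn) {K : Type u} [Group K] [Finite K] [IsSimpleGroup K] (hna : ¬ IsMulCommutative K)
    (hK : IsExceptionalChevChar 2 K ∨ IsTwistedE6D4Char 2 K ∨ IsoSuzuki K ∨ Iso2F4 K) : Row K := by
  rcases hK with ⟨F, _, _, _, h⟩ | ⟨F, _, _, _, q, hq, h⟩ | h | h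
  · rcases h with ⟨h, ⟨e⟩⟩ | ⟨⟨e⟩⟩ | ⟨⟨e⟩⟩ | ⟨⟨e⟩⟩ | ⟨⟨e⟩⟩
    · exact (row_G2 h).congr e.symm
    · exact (row_F4 H).congr e.symm
    · exact (row_E6 H).congr e.symm
    · exact row_E7.congr e.symm
    · exact row_E8.congr e.symm
  · rcases h with ⟨h, ⟨e⟩⟩ | ⟨h, ⟨e⟩⟩
    · exact (row_te6 H hq h).congr e.symm
    · exact (row_D4 hq h).congr e.symm
  · refine row_inner hna ?_ fun x hx => SzTwF.inner_sz h hx
    unfold IsChevSimple IsLieTypeChar
    tauto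
  · refine row_inner hna ?_ fun x hx => SzTwF.inner_twF4 h hx
    unfold IsChevSimple IsLieTypeChar
    tauto

end Cfsg.Agent.H829.ExcComp
end
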